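import Mathlib.AlgebraicGeometry.Birational.RationalMap
import Groth.Agent.FinCond.K653.SpreadUnique

/-! Partial maps over `S` to a target locally of finite type are equivalent if they agree on the
local scheme of a point of an irreducible source. -/

set_option autoImplicit false
universe u

namespace K653.EquivGen

open CategoryTheory CategoryTheory.Limits AlgebraicGeometry TopologicalSpace
open AlgebraicGeometry.Scheme AlgebraicGeometry.Scheme.PartialMap

variable {X Y S : Scheme.{u}}

set_option backward.defeqAttrib.useBackward true in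
set_option backward.isDefEq.respectTransparency false in
theorem equiv_of_fromSpecStalkOfMem_eq [X.Over S] [Y.Over S] [LocallyOfFiniteType (Y ↘ S)]
    [IrreducibleSpace X] {x : X} (f g : X.PartialMap Y) [f.IsOver S] [g.IsOver S]
    (hxf : x ∈ f.domain) (hxg : x ∈ g.domain)
    (H : f.fromSpecStalkOfMem hxf = g.fromSpecStalkOfMem hxg) : f.equiv g := by
  have hdense : Dense ((f.domain ⊓ g.domain) : Set X) :=
    f.dense_domain.inter_of_isOpen_left g.dense_domain f.domain.2
  have := SpreadUnique.spread_out_unique' (X := (f.domain ⊓ g.domain).toScheme) (Y ↘ S)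
    (X.homOfLE inf_le_left ≫ f.hom) (X.homOfLE inf_le_right ≫ g.hom) ?_ (x := ⟨x, hxf, hxg⟩) ?_
  · obtain ⟨U, hxU, e⟩ := this
    refine ⟨(f.domain ⊓ g.domain).ι ''ᵁ U, ((f.domain ⊓ g.domain).ι ''ᵁ U).2.dense
      ⟨_, ⟨_, hxU, rfl⟩⟩,
      ((Set.image_subset_range _ _).trans_eq (Subtype.range_val)).trans inf_le_left,
      ((Set.image_subset_range _ _).trans_eq (Subtype.range_val)).trans inf_le_right, ?_⟩
    rw [← cancel_epi (Scheme.Hom.isoImage _ _).hom]
    simp only [restrict_hom, ← Category.assoc] at e ⊢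
    convert! e using 2 <;> rw [← cancel_mono (Scheme.Opens.ι _)] <;> simp
  · have h1 : f.hom ≫ (Y ↘ S) = f.domain.ι ≫ (X ↘ S) := isOver_iff.mp inferInstance
    have h2 : g.hom ≫ (Y ↘ S) = g.domain.ι ≫ (X ↘ S) := isOver_iff.mp inferInstance
    rw [Category.assoc, Category.assoc, h1, h2, Scheme.homOfLE_ι_assoc, Scheme.homOfLE_ι_assoc]
  · rw [← f.fromSpecStalkOfMem_restrict hdense inf_le_left ⟨hxf, hxg⟩,
      ← g.fromSpecStalkOfMem_restrict hdense inf_le_right ⟨hxf, hxg⟩] at H
    simpa only [fromSpecStalkOfMem, restrict_domain, Opens.fromSpecStalkOfMem, Spec.map_inv,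
      restrict_hom, Category.assoc, IsIso.eq_inv_comp, IsIso.hom_inv_id_assoc] using H

theorem eq_of_fromFunctionField_eq [X.Over S] [Y.Over S] [LocallyOfFiniteType (Y ↘ S)]
    [IrreducibleSpace X] (f g : X ⤏ Y) [f.IsOver S] [g.IsOver S]
    (H : f.fromFunctionField = g.fromFunctionField) : f = g := by
  obtain ⟨f, hf, rfl⟩ := f.exists_partialMap_over S
  obtain ⟨g, hg, rfl⟩ := g.exists_partialMap_over S
  refine PartialMap.toRationalMap_eq_iff.mpr ?_
  exact equiv_of_fromSpecStalkOfMem_eq (S := S) _ _ _ _ H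

end K653.EquivGen
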