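import Mathlib.AlgebraicGeometry.Birational.RationalMap
import Groth.Agent.Sga1.BiratExt

/-! The largest representative over `S` of an `S`-rational map to an `S`-separated scheme. -/

set_option autoImplicit false
universe u

namespace K653.Largest

open CategoryTheory CategoryTheory.Limits AlgebraicGeometry TopologicalSpace
open AlgebraicGeometry.Scheme AlgebraicGeometry.Scheme.PartialMap

variable {X Y S : Scheme.{u}}

theorem exists_largest (S : Scheme.{u}) [X.Over S] [Y.Over S] [IsReduced X] [IsSeparated (Y ↘ S)]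
    (f : X ⤏ Y) [f.IsOver S] :
    ∃ g : X.PartialMap Y, g.IsOver S ∧ g.toRationalMap = f ∧
      ∀ h : X.PartialMap Y, h.IsOver S → h.toRationalMap = f →
        ∃ hle : h.domain ≤ g.domain, h = g.restrict h.domain h.dense_domain hle := by
  let I := { g : X.PartialMap Y // g.IsOver S ∧ g.toRationalMap = f }
  let U : I → X.Opens := fun g => g.1.domain
  obtain ⟨F, hF⟩ := Groth.Agent.Sga1.BiratExt.exists_glue U (fun g => g.1.hom) (by
    intro g h
    have := g.2.1
    have := h.2.1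
    have e : g.1.equiv h.1 := PartialMap.toRationalMap_eq_iff.mp (g.2.2.trans h.2.2.symm)
    exact (PartialMap.equiv_iff_of_isSeparated (S := S)).mp e)
  obtain ⟨g₀, hg₀, hg₀'⟩ := f.exists_partialMap_over S
  have hd : Dense ((⨆ i, U i : X.Opens) : Set X) :=
    g₀.dense_domain.mono (le_iSup U ⟨g₀, hg₀, hg₀'⟩)
  let G : X.PartialMap Y := ⟨⨆ i, U i, hd, F⟩
  have key : ∀ h : X.PartialMap Y, h.IsOver S → h.toRationalMap = f →
      ∃ hle : h.domain ≤ G.domain, h = G.restrict h.domain h.dense_domain hle := by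
    intro h h1 h2
    refine ⟨le_iSup U ⟨h, h1, h2⟩, ?_⟩
    refine PartialMap.ext _ _ rfl ?_
    have h3 : X.homOfLE (le_iSup U ⟨h, h1, h2⟩) ≫ F = h.hom := hF ⟨h, h1, h2⟩
    have h4 : (X.isoOfEq (rfl : h.domain = h.domain)).hom = 𝟙 _ := by
      rw [← cancel_mono h.domain.ι]; simp
    rw [← h3]
    change _ = (X.isoOfEq (rfl : h.domain = h.domain)).hom ≫ X.homOfLE (le_iSup U ⟨h, h1, h2⟩) ≫ F
    rw [h4, Category.id_comp]
  refine ⟨G, ?_, ?_, key⟩
  · rw [PartialMap.isOver_iff]
    apply Groth.Agent.Sga1.BiratExt.iSup_hom_ext U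
    intro i
    have := i.2.1
    have h1 := PartialMap.isOver_iff.mp i.2.1
    change i.1.hom ≫ (Y ↘ S) = _ at h1
    change _ ≫ F ≫ (Y ↘ S) = _ ≫ (⨆ i, U i : X.Opens).ι ≫ _
    rw [← Category.assoc, hF, h1, Scheme.homOfLE_ι_assoc]
  · obtain ⟨hle, e⟩ := key g₀ hg₀ hg₀'
    rw [← hg₀', e, PartialMap.restrict_toRationalMap]

end K653.Largest
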